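import Groth.Agent.Lib.BorelFix21.Solvable
import Groth.Agent.Lib.AbRigid.Connected
import Groth.Prelude.Def_AGF
import Mathlib.GroupTheory.Nilpotent
import Mathlib.AlgebraicGeometry.Morphisms.QuasiFinite

/-!
# Word maps and finite kernels

A morphism from a smooth geometrically irreducible scheme into the finite kernel of a homomorphism which
takes the value one somewhere is constant.  Applied to the word maps of commutativity, solvability and
nilpotency this transfers these properties to the source of an isogeny.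
-/

set_option autoImplicit false
set_option linter.style.haveILetI false
set_option backward.isDefEq.respectTransparency.types false
universe u

open CategoryTheory Limits MonoidalCategory CartesianMonoidalCategory MonObj AlgebraicGeometry
open scoped commutatorElement

noncomputable section

namespace Groth.Agent.IsogTransfer19

open BorelFix21

variable {k : Type u} [Field k]

/-- Smooth and geometrically irreducible. -/
class Good (Z : Over (Spec (CommRingCat.of k))) : Prop where
  smooth : Smooth Z.hom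
  irred : GeometricallyIrreducible Z.hom

instance {X Y : Over (Spec (CommRingCat.of k))} [Good X] [Good Y] : Good (X ⊗ Y) := by
  haveI := Good.smooth (Z := X); haveI := Good.smooth (Z := Y)
  haveI := Good.irred (Z := X); haveI := Good.irred (Z := Y)
  exact ⟨inferInstanceAs (Smooth (pullback.fst X.hom Y.hom ≫ X.hom)),
    show GeometricallyIrreducible (pullback.fst X.hom Y.hom ≫ X.hom) from GeometricallyIrreducible.comp _ _⟩

theorem good_of_connected (G : Over (Spec (CommRingCat.of k))) [GrpObj G] [Smooth G.hom] [ConnectedSpace G.left] :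
    Good G :=
  ⟨inferInstance, AbRigid.geometricallyIrreducible_of_connected G⟩

theorem isReduced_of_good (Z : Over (Spec (CommRingCat.of k))) [Good Z] : IsReduced Z.left := by
  haveI := Good.smooth (Z := Z)
  exact OrbitTop19.isReduced_of_smooth Z.hom

variable {G H Z : Over (Spec (CommRingCat.of k))} [GrpObj G] [GrpObj H]

/-- **The finite kernel trick.** -/
theorem eq_one_of_comp_eq_one [IsSeparated G.hom] [IsSeparated H.hom] (f : G ⟶ H) [IsMonHom f] [IsFinite f.left]
    [Good Z] (w : Z ⟶ G) (hw : w ≫ f = 1) (z : 𝟙_ (Over (Spec (CommRingCat.of k))) ⟶ Z) (hz : z ≫ w = 1) :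
    w = 1 := by
  haveI := Good.smooth (Z := Z); haveI := Good.irred (Z := Z)
  haveI := isReduced_of_good Z
  haveI : IrreducibleSpace ↥(Spec (CommRingCat.of k)) := ⟨⟨IsLocalRing.closedPoint k⟩⟩
  haveI : IrreducibleSpace Z.left := GeometricallyIrreducible.irreducibleSpace (f := Z.hom) Z.hom.isOpenMap
  haveI : IsClosedImmersion η[G].left := isClosedImmersion_of_comp_eq_id G.hom η[G].left (Over.w η[G])
  haveI : IsClosedImmersion η[H].left := isClosedImmersion_of_comp_eq_id H.hom η[H].left (Over.w η[H])
  let p₀ : ↥(Spec (CommRingCat.of k)) := IsLocalRing.closedPoint k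
  let e : H.left := η[H].left p₀
  have he : IsClosed ({e} : Set H.left) := by
    have := η[H].left.isClosedEmbedding.isClosedMap _ (isClosed_discrete ({p₀} : Set _))
    rwa [Set.image_singleton] at this
  have hF : ∀ q, w.left q ∈ f.left ⁻¹' {e} := fun q => by
    show f.left (w.left q) = e
    rw [← Scheme.Hom.comp_apply, ← Over.comp_left, hw, Hom.one_def, Over.comp_left, Scheme.Hom.comp_apply]
    exact congrArg η[H].left (Subsingleton.elim (α := PrimeSpectrum k) _ _)
  have hfin : (f.left ⁻¹' {e}).Finite := f.left.finite_preimage_singleton e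
  haveI : DiscreteTopology ↥(f.left ⁻¹' {e}) := (f.left.isDiscrete_preimage_singleton e).to_subtype
  have hcl : ∀ g ∈ f.left ⁻¹' {e}, IsClosed ({g} : Set G.left) := fun g hg => by
    have := ((he.preimage f.left.continuous).isClosedEmbedding_subtypeVal).isClosedMap _
      (isClosed_discrete ({⟨g, hg⟩} : Set ↥(f.left ⁻¹' {e})))
    rwa [Set.image_singleton] at this
  -- `w` is constant
  have huniv : (Set.univ : Set Z.left) ⊆ ⋃ g ∈ hfin.toFinset, w.left ⁻¹' {g} := fun q _ =>
    Set.mem_biUnion (hfin.mem_toFinset.2 (hF q)) rfl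
  obtain ⟨g, hg, hsub⟩ : ∃ g ∈ hfin.toFinset, Set.univ ⊆ w.left ⁻¹' {g} := by
    have h1 := (isIrreducible_iff_sUnion_isClosed.1 (IrreducibleSpace.isIrreducible_univ Z.left))
      (hfin.toFinset.image fun g => w.left ⁻¹' {g}) (fun s hs => by
        obtain ⟨g, hg, rfl⟩ := Finset.mem_image.1 hs
        exact (hcl g (hfin.mem_toFinset.1 hg)).preimage w.left.continuous) (fun q hq => by
        obtain ⟨g, hg, hq⟩ := Set.mem_iUnion₂.1 (huniv hq)
        exact Set.mem_sUnion.2 ⟨_, by simpa using ⟨g, by simpa using hg, rfl⟩, hq⟩)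
    obtain ⟨s, hs, hsub⟩ := h1
    obtain ⟨g, hg, rfl⟩ := Finset.mem_image.1 hs
    exact ⟨g, hg, hsub⟩
  obtain ⟨l, hl⟩ := PtsDetect19.lift_of_range w η[G] (by
    rintro _ ⟨q, rfl⟩
    refine ⟨p₀, ?_⟩
    rw [show w.left q = w.left (z.left p₀) from (hsub (Set.mem_univ q)).trans (hsub (Set.mem_univ _)).symm,
      ← Scheme.Hom.comp_apply, ← Over.comp_left, hz, Hom.one_def, Over.comp_left, Scheme.Hom.comp_apply]
    exact congrArg η[G].left (Subsingleton.elim (α := PrimeSpectrum k) _ _))
  rw [← hl, toUnit_unique l (toUnit Z)]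
  rfl

variable (G) in
/-- The variables of the central series word maps. -/
def nilObj : ℕ → Over (Spec (CommRingCat.of k))
  | 0 => G
  | n + 1 => nilObj n ⊗ G

variable (G) in
/-- The central series word maps. -/
def nilWord : ∀ n, nilObj G n ⟶ G
  | 0 => 𝟙 G
  | n + 1 => (⁅fst (nilObj G n) G ≫ nilWord n, snd (nilObj G n) G⁆ : nilObj G n ⊗ G ⟶ G)

theorem comp_nilWord_succ {T : Over (Spec (CommRingCat.of k))} (n : ℕ) (q : T ⟶ nilObj G n ⊗ G) :
    q ≫ nilWord G (n + 1) = ⁅(q ≫ fst _ _) ≫ nilWord G n, q ≫ snd _ _⁆ := by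
  refine (comp_commutator q _ _).trans ?_
  simp only [Category.assoc]

theorem nilWord_mem (T : Over (Spec (CommRingCat.of k))) (n : ℕ) :
    ∀ q : T ⟶ nilObj G n, q ≫ nilWord G n ∈ (⊤ : Subgroup (T ⟶ G)).lowerCentralSeries n := by
  induction n with
  | zero => exact fun q => Subgroup.mem_top _
  | succ n ih =>
    intro q
    rw [Subgroup.lowerCentralSeries_succ, show q ≫ nilWord G (n + 1) = _ from comp_nilWord_succ n q]
    exact Subgroup.commutator_mem_commutator (ih _) (Subgroup.mem_top _)

theorem lowerCentralSeries_le (T : Over (Spec (CommRingCat.of k))) (n : ℕ) :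
    (⊤ : Subgroup (T ⟶ G)).lowerCentralSeries n ≤
      Subgroup.normalClosure (Set.range fun q : T ⟶ nilObj G n => q ≫ nilWord G n) := by
  induction n with
  | zero => exact fun x _ => Subgroup.subset_normalClosure ⟨x, Category.comp_id x⟩
  | succ n ih =>
    rw [Subgroup.lowerCentralSeries_succ, Subgroup.commutator_le]
    let N := Subgroup.normalClosure (Set.range fun q : T ⟶ nilObj G (n + 1) => q ≫ nilWord G (n + 1))
    let C := (Subgroup.center ((T ⟶ G) ⧸ N)).comap (QuotientGroup.mk' N)
    have hC : ∀ a : T ⟶ G, a ∈ C ↔ ∀ b, ⁅a, b⁆ ∈ N := fun a => by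
      have h : ∀ b : T ⟶ G, ⁅a, b⁆ ∈ N ↔ QuotientGroup.mk' N a * QuotientGroup.mk' N b =
          QuotientGroup.mk' N b * QuotientGroup.mk' N a := fun b => by
        rw [← commutatorElement_eq_one_iff_mul_comm, ← map_commutatorElement]
        exact (QuotientGroup.eq_one_iff _).symm
      rw [Subgroup.mem_comap, Subgroup.mem_center_iff, (QuotientGroup.mk'_surjective N).forall]
      exact forall_congr' fun b => ⟨fun e => (h b).2 e.symm, fun e => ((h b).1 e).symm⟩
    have hle : Subgroup.normalClosure (Set.range fun q : T ⟶ nilObj G n => q ≫ nilWord G n) ≤ C := by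
      refine Subgroup.normalClosure_le_normal ?_
      rintro _ ⟨q, rfl⟩
      refine (hC _).2 fun b => Subgroup.subset_normalClosure ⟨lift q b, ?_⟩
      show lift q b ≫ nilWord G (n + 1) = _
      refine (comp_nilWord_succ n _).trans ?_
      rw [lift_fst, lift_snd]
    exact fun a ha b _ => (hC a).1 (hle (ih ha)) b

theorem good_wordObj [Good G] : ∀ n, Good (wordObj G n)
  | 0 => (inferInstance : Good G)
  | n + 1 => by
    haveI := good_wordObj n
    exact inferInstanceAs (Good ((G ⊗ wordObj G n) ⊗ (G ⊗ wordObj G n)))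

theorem good_nilObj [Good G] : ∀ n, Good (nilObj G n)
  | 0 => (inferInstance : Good G)
  | n + 1 => by
    haveI := good_nilObj n
    exact inferInstanceAs (Good (nilObj G n ⊗ G))

theorem exists_pt_word : ∀ n, ∃ z : 𝟙_ (Over (Spec (CommRingCat.of k))) ⟶ wordObj G n, z ≫ word G n = 1
  | 0 => ⟨(1 : 𝟙_ (Over (Spec (CommRingCat.of k))) ⟶ G), Category.comp_id _⟩
  | n + 1 => by
    obtain ⟨z, -⟩ := exists_pt_word n
    refine ⟨lift (lift 1 z) (lift 1 z), (comp_word_succ n _).trans ?_⟩
    rw [lift_fst, lift_snd, commutatorElement_self]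

theorem exists_pt_nilWord : ∀ n, ∃ z : 𝟙_ (Over (Spec (CommRingCat.of k))) ⟶ nilObj G n, z ≫ nilWord G n = 1
  | 0 => ⟨(1 : 𝟙_ (Over (Spec (CommRingCat.of k))) ⟶ G), Category.comp_id _⟩
  | n + 1 => by
    obtain ⟨z, -⟩ := exists_pt_nilWord n
    refine ⟨lift z 1, (comp_nilWord_succ n _).trans ?_⟩
    rw [lift_snd, commutatorElement_one_right]

section Isogeny

variable [IsSeparated G.hom] [IsSeparated H.hom] [Smooth G.hom] [ConnectedSpace G.left] (f : G ⟶ H) [IsMonHom f]
  [IsFinite f.left]

/-- Composition with a homomorphism, on points. -/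
def push (T : Over (Spec (CommRingCat.of k))) : (T ⟶ G) →* (T ⟶ H) :=
  MonoidHom.mk' (fun x => x ≫ f) fun x y => MonObj.mul_comp x y f

include f in
theorem isSolvableGrp_of_isogeny (h : Red.IsSolvableGrp H) : Red.IsSolvableGrp G := by
  obtain ⟨n, hn⟩ := h
  haveI := good_of_connected G
  haveI := good_wordObj (G := G) n
  obtain ⟨z, hz⟩ := exists_pt_word (G := G) n
  have h0 : word G n ≫ f = 1 := by
    have := map_derivedSeries_le_derivedSeries (push f (wordObj G n)) n
      (Subgroup.mem_map_of_mem _ (word_mem_derivedSeries (wordObj G n) n (𝟙 _)))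
    rw [hn, Subgroup.mem_bot, Category.id_comp] at this
    exact this
  have h1 := eq_one_of_comp_eq_one f (word G n) h0 z hz
  refine ⟨n, fun T => le_bot_iff.1 ((derivedSeries_le T n).trans (Subgroup.normalClosure_le_normal ?_))⟩
  rintro _ ⟨q, rfl⟩
  show q ≫ word G n ∈ (⊥ : Subgroup (T ⟶ G))
  rw [h1, MonObj.comp_one]
  exact one_mem _

include f in
theorem isNilpotentGrp_of_isogeny (h : AGF.IsNilpotentGrp H) : AGF.IsNilpotentGrp G := by
  obtain ⟨n, hn⟩ := h
  haveI := good_of_connected G
  haveI := good_nilObj (G := G) n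
  obtain ⟨z, hz⟩ := exists_pt_nilWord (G := G) n
  have h0 : nilWord G n ≫ f = 1 := by
    have h2 : (push f (nilObj G n)) (𝟙 _ ≫ nilWord G n) ∈
        (⊤ : Subgroup (nilObj G n ⟶ H)).lowerCentralSeries n :=
      Subgroup.lowerCentralSeries_mono n le_top ((Subgroup.map_lowerCentralSeries _ (push f _) n).le
        (Subgroup.mem_map_of_mem _ (nilWord_mem (nilObj G n) n (𝟙 _))))
    rw [Subgroup.lowerCentralSeries_eq_bot_iff_upperCentralSeries_eq_top.2 (hn _), Subgroup.mem_bot,
      Category.id_comp] at h2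
    exact h2
  have h1 := eq_one_of_comp_eq_one f (nilWord G n) h0 z hz
  refine ⟨n, fun T => Subgroup.lowerCentralSeries_eq_bot_iff_upperCentralSeries_eq_top.1
    (le_bot_iff.1 ((lowerCentralSeries_le T n).trans (Subgroup.normalClosure_le_normal ?_)))⟩
  rintro _ ⟨q, rfl⟩
  show q ≫ nilWord G n ∈ (⊥ : Subgroup (T ⟶ G))
  rw [h1, MonObj.comp_one]
  exact one_mem _

include f in
theorem isCommMonObj_of_isogeny [IsCommMonObj H] : IsCommMonObj G := by
  haveI := good_of_connected G
  have h1 := eq_one_of_comp_eq_one f (⁅fst G G, snd G G⁆ : G ⊗ G ⟶ G) (by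
    show push f _ _ = 1
    rw [map_commutatorElement, commutatorElement_eq_one_iff_mul_comm]
    exact mul_comm _ _) (lift 1 1) (by rw [comp_commutator, lift_fst, lift_snd, commutatorElement_self])
  rw [commutatorElement_eq_one_iff_mul_comm] at h1
  refine ⟨?_⟩
  rw [MonObj.mul_eq_mul, MonObj.comp_mul, braiding_hom_fst, braiding_hom_snd]
  exact h1.symm

end Isogeny

end Groth.Agent.IsogTransfer19
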