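import Groth.Agent.Lib.IsogTransfer19.Words
import Groth.Agent.Lib.TorPts21.RadicalImage
import Groth.Agent.Lib.Desc.Over

/-!
# Isogenies: commutativity and subtori
-/

set_option autoImplicit false
set_option linter.style.haveILetI false
set_option backward.isDefEq.respectTransparency.types false
universe u

open CategoryTheory Limits MonoidalCategory CartesianMonoidalCategory MonObj AlgebraicGeometry

noncomputable section

namespace Groth.Agent.IsogTransfer19

variable {k : Type u} [Field k] {G H : Over (Spec (CommRingCat.of k))} [GrpObj G] [GrpObj H]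

theorem isCommMonObj_of_cover [LocallyOfFiniteType G.hom] [LocallyOfFiniteType H.hom] (f : G ⟶ H) [IsMonHom f]
    [Flat f.left] [Surjective f.left] [IsCommMonObj G] : IsCommMonObj H := by
  obtain ⟨T, π, a, b, hπ, ha, hb⟩ := (Desc.isCover_of_lft f).exists_lift₂ (fst H H) (snd H H)
  haveI := hπ.epi
  refine ⟨(cancel_epi π).1 ?_⟩
  rw [MonObj.mul_eq_mul, MonObj.comp_mul (β_ H H).hom, braiding_hom_fst, braiding_hom_snd, MonObj.comp_mul π,
    MonObj.comp_mul π, ← ha, ← hb, ← MonObj.mul_comp, ← MonObj.mul_comp, mul_comm b a]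

variable (K : Type u) [Field K] [IsAlgClosed K] (φ : Spec (CommRingCat.of K) ⟶ Spec (CommRingCat.of k))

theorem props_map_bc (f : G ⟶ H) [Surjective f.left] [IsFinite f.left] :
    Surjective ((Over.pullback φ).map f).left ∧ IsFinite ((Over.pullback φ).map f).left := by
  have sq : IsPullback ((Over.pullback φ).map f).left (pullback.fst G.hom φ) (pullback.fst H.hom φ) f.left := by
    refine IsPullback.of_right (h₁₂ := pullback.snd H.hom φ) (v₁₃ := φ) (h₂₂ := H.hom) ?_ ?_
      (IsPullback.of_hasPullback H.hom φ).flip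
    · have := (IsPullback.of_hasPullback G.hom φ).flip
      erw [pullback.lift_snd]
      simpa using this
    · erw [pullback.lift_fst]
  exact ⟨MorphismProperty.of_isPullback (P := @Surjective) sq.flip ‹_›,
    MorphismProperty.of_isPullback (P := @IsFinite) sq.flip ‹_›⟩

/-- An isogeny respects the absence of subtori. -/
theorem hasNoSubtorus_bc_iff [IsAffine G.left] [Smooth G.hom] [ConnectedSpace G.left] [IsAffine H.left]
    [Smooth H.hom] [ConnectedSpace H.left] (f : G ⟶ H) [IsMonHom f] [Surjective f.left] [IsFinite f.left] :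
    Red.HasNoSubtorus K (Red.bc φ G) ↔ Red.HasNoSubtorus K (Red.bc φ H) := by
  haveI : IsAffine (Red.bc φ G).left := BorelFix21.isAffine_bc _ G
  haveI : Smooth (Red.bc φ G).hom := BorelFix21.smooth_bc _ G
  haveI : ConnectedSpace (Red.bc φ G).left := BorelFix21.connectedSpace_bc _ G
  haveI : IsAffine (Red.bc φ H).left := BorelFix21.isAffine_bc _ H
  haveI : Smooth (Red.bc φ H).hom := BorelFix21.smooth_bc _ H
  haveI : ConnectedSpace (Red.bc φ H).left := BorelFix21.connectedSpace_bc _ H
  obtain ⟨hs, hf⟩ := props_map_bc K φ f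
  haveI := hs; haveI := hf
  haveI : IsSeparated (Red.bc φ G).hom := inferInstance
  haveI : IsSeparated (Red.bc φ H).hom := inferInstance
  refine ⟨fun h => TorPts21.hasNoSubtorus_image ((Over.pullback φ).map f) h, fun h T _ j _ _ hT => ?_⟩
  obtain ⟨hTa, hTs, hTc, -⟩ := TorPts21.props_of_isTorus hT
  haveI := hTa
  haveI := hTs
  haveI := hTc
  haveI := good_of_connected T
  have h1 : j ≫ (Over.pullback φ).map f = 1 :=
    TorPts21.hom_eq_one_of_pts _ fun t => TorPts21.pt_torus_hom_eq_one hT h _ t
  have h2 := eq_one_of_comp_eq_one ((Over.pullback φ).map f) j h1 1 (MonObj.one_comp j)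
  have h3 : 𝟙 T = 1 := (cancel_mono j).1 (by rw [Category.id_comp, MonObj.one_comp, h2])
  exact ⟨η[T].left, (congrArg CommaMorphism.left h3).symm, Over.w η[T]⟩

end Groth.Agent.IsogTransfer19
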