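import Groth.Agent.Lib.IsogTransfer19.Subgroups
import Groth.Agent.Lib.TorPts21.QuotientAffine
import Groth.Agent.S7997

/-!
# Dimensions of subgroups and isogenies
-/

set_option autoImplicit false
set_option linter.style.haveILetI false
set_option backward.isDefEq.respectTransparency.types false
universe u

open CategoryTheory Limits MonoidalCategory CartesianMonoidalCategory MonObj AlgebraicGeometry

noncomputable section

namespace Groth.Agent.IsogTransfer19

variable {k : Type u} [Field k] (K : Type u) [Field K] [IsAlgClosed K] (φ : Spec (CommRingCat.of K) ⟶ Spec (CommRingCat.of k))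
  {G H : Over (Spec (CommRingCat.of k))} [GrpObj G] [GrpObj H] [LocallyOfFiniteType G.hom] [QuasiCompact G.hom]
  [LocallyOfFiniteType H.hom] [QuasiCompact H.hom] (f : G ⟶ H) [IsMonHom f] [Surjective f.left] [IsFinite f.left]
  (d : ℕ)

theorem props_bc (X : Over (Spec (CommRingCat.of k))) [LocallyOfFiniteType X.hom] [QuasiCompact X.hom] :
    LocallyOfFiniteType (Red.bc φ X).hom ∧ QuasiCompact (Red.bc φ X).hom :=
  ⟨inferInstanceAs (LocallyOfFiniteType (pullback.snd X.hom φ)), inferInstanceAs (QuasiCompact (pullback.snd X.hom φ))⟩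

include f in
/-- The image of a subgroup of the base change. -/
theorem exists_push {U : Over (Spec (CommRingCat.of K))} [GrpObj U] (i : U ⟶ Red.bc φ G) [IsMonHom i]
    [IsClosedImmersion i.left] [Smooth U.hom] [ConnectedSpace U.left] :
    ∃ (V : Over (Spec (CommRingCat.of K))) (_ : GrpObj V) (j : V ⟶ Red.bc φ H) (p : U ⟶ V), IsMonHom j ∧
      IsClosedImmersion j.left ∧ Smooth V.hom ∧ QuasiCompact V.hom ∧ QuasiCompact U.hom ∧ ConnectedSpace V.left ∧
      IsMonHom p ∧ Surjective p.left ∧ IsFinite p.left ∧ Flat p.left ∧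
      topologicalKrullDim U.left = topologicalKrullDim V.left := by
  obtain ⟨hG1, hG2⟩ := props_bc K φ G
  obtain ⟨hH1, hH2⟩ := props_bc K φ H
  haveI := hG1; haveI := hG2; haveI := hH1; haveI := hH2
  obtain ⟨hs, hf⟩ := props_map_bc K φ f
  haveI := hs; haveI := hf
  haveI : IsFinite (i ≫ (Over.pullback φ).map f).left := by rw [Over.comp_left]; infer_instance
  obtain ⟨V, _, j, p, h1, h2, h3, h4, h5, h6, h7, h8, -⟩ := exists_image_finite (i ≫ (Over.pullback φ).map f)
  haveI := h2; haveI := h6; haveI := h7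
  exact ⟨V, inferInstance, j, p, h1, h2, h3, by rw [← Over.w j]; infer_instance,
    by rw [← Over.w i]; infer_instance, h4, h5, h6, h7, h8, dim_eq_of_finite_surjective p.left⟩

include f in
/-- The preimage of a subgroup of the base change. -/
theorem exists_pull {V : Over (Spec (CommRingCat.of K))} [GrpObj V] (i : V ⟶ Red.bc φ H) [IsMonHom i]
    [IsClosedImmersion i.left] :
    ∃ (U : Over (Spec (CommRingCat.of K))) (_ : GrpObj U) (u : U ⟶ Red.bc φ G) (q : U ⟶ V), IsMonHom u ∧
      IsClosedImmersion u.left ∧ Smooth U.hom ∧ ConnectedSpace U.left ∧ IsMonHom q ∧ IsFinite q.left ∧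
      topologicalKrullDim V.left ≤ topologicalKrullDim U.left := by
  obtain ⟨hG1, hG2⟩ := props_bc K φ G
  obtain ⟨hH1, hH2⟩ := props_bc K φ H
  haveI := hG1; haveI := hH1
  obtain ⟨hs, hf⟩ := props_map_bc K φ f
  haveI := hs; haveI := hf
  haveI : LocallyOfFiniteType V.hom := by rw [← Over.w i]; infer_instance
  exact exists_preimage_finite ((Over.pullback φ).map f) i

include f in
theorem exists_solvable_iff :
    (∃ (U : Over (Spec (CommRingCat.of K))) (_ : GrpObj U) (i : U ⟶ Red.bc φ G), IsMonHom i ∧ IsClosedImmersion i.left ∧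
        Smooth U.hom ∧ ConnectedSpace ↥U.left ∧ Red.IsSolvableGrp U ∧ (d : WithBot ℕ∞) ≤ topologicalKrullDim ↥U.left) ↔
    (∃ (U : Over (Spec (CommRingCat.of K))) (_ : GrpObj U) (i : U ⟶ Red.bc φ H), IsMonHom i ∧ IsClosedImmersion i.left ∧
        Smooth U.hom ∧ ConnectedSpace ↥U.left ∧ Red.IsSolvableGrp U ∧ (d : WithBot ℕ∞) ≤ topologicalKrullDim ↥U.left) := by
  constructor
  · rintro ⟨U, _, i, him, hic, hs, hc, hsol, hd⟩
    haveI := him; haveI := hic; haveI := hs; haveI := hc
    obtain ⟨V, _, j, p, h1, h2, h3, h4, h4', h5, h6, h7, h8, h9, h10⟩ := exists_push K φ f i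
    haveI := h3; haveI := h4; haveI := h4'; haveI := h6; haveI := h7; haveI := h9
    exact ⟨V, inferInstance, j, h1, h2, h3, h5, Groth.Agent.S7997.result K U V p hsol, h10 ▸ hd⟩
  · rintro ⟨V, _, i, him, hic, hs, hc, hsol, hd⟩
    haveI := him; haveI := hic
    obtain ⟨U, _, u, q, h1, h2, h3, h4, h5, h6, h7⟩ := exists_pull K φ f i
    haveI := h3; haveI := h4; haveI := h5; haveI := h6
    haveI : IsSeparated U.hom := AbRigid.isSeparated_of_grpObj U
    haveI : IsSeparated V.hom := AbRigid.isSeparated_of_grpObj V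
    exact ⟨U, inferInstance, u, h1, h2, h3, h4, isSolvableGrp_of_isogeny q hsol, hd.trans h7⟩

include f in
theorem exists_affine_solvable_iff :
    (∃ (U : Over (Spec (CommRingCat.of K))) (_ : GrpObj U) (i : U ⟶ Red.bc φ G), IsMonHom i ∧ IsClosedImmersion i.left ∧
        Smooth U.hom ∧ IsAffine U.left ∧ ConnectedSpace ↥U.left ∧ Red.IsSolvableGrp U ∧
        (d : WithBot ℕ∞) ≤ topologicalKrullDim ↥U.left) ↔
    (∃ (U : Over (Spec (CommRingCat.of K))) (_ : GrpObj U) (i : U ⟶ Red.bc φ H), IsMonHom i ∧ IsClosedImmersion i.left ∧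
        Smooth U.hom ∧ IsAffine U.left ∧ ConnectedSpace ↥U.left ∧ Red.IsSolvableGrp U ∧
        (d : WithBot ℕ∞) ≤ topologicalKrullDim ↥U.left) := by
  constructor
  · rintro ⟨U, _, i, him, hic, hs, ha, hc, hsol, hd⟩
    haveI := him; haveI := hic; haveI := hs; haveI := hc; haveI := ha
    obtain ⟨V, _, j, p, h1, h2, h3, h4, h4', h5, h6, h7, h8, h9, h10⟩ := exists_push K φ f i
    haveI := h3; haveI := h4; haveI := h4'; haveI := h6; haveI := h7; haveI := h9
    exact ⟨V, inferInstance, j, h1, h2, h3, TorPts21.isAffine_of_surjective_hom p, h5,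
      Groth.Agent.S7997.result K U V p hsol, h10 ▸ hd⟩
  · rintro ⟨V, _, i, him, hic, hs, ha, hc, hsol, hd⟩
    haveI := him; haveI := hic; haveI := ha
    obtain ⟨U, _, u, q, h1, h2, h3, h4, h5, h6, h7⟩ := exists_pull K φ f i
    haveI := h3; haveI := h4; haveI := h5; haveI := h6
    haveI : IsAffine U.left := isAffine_of_isAffineHom q.left
    haveI : IsSeparated U.hom := AbRigid.isSeparated_of_grpObj U
    haveI : IsSeparated V.hom := AbRigid.isSeparated_of_grpObj V
    exact ⟨U, inferInstance, u, h1, h2, h3, inferInstance, h4, isSolvableGrp_of_isogeny q hsol, hd.trans h7⟩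

include f in
theorem exists_unipotent_iff :
    (∃ (U : Over (Spec (CommRingCat.of K))) (_ : GrpObj U) (i : U ⟶ Red.bc φ G), IsMonHom i ∧ IsClosedImmersion i.left ∧
        Smooth U.hom ∧ IsAffine U.left ∧ ConnectedSpace ↥U.left ∧ Red.HasNoSubtorus K U ∧
        (d : WithBot ℕ∞) ≤ topologicalKrullDim ↥U.left) ↔
    (∃ (U : Over (Spec (CommRingCat.of K))) (_ : GrpObj U) (i : U ⟶ Red.bc φ H), IsMonHom i ∧ IsClosedImmersion i.left ∧
        Smooth U.hom ∧ IsAffine U.left ∧ ConnectedSpace ↥U.left ∧ Red.HasNoSubtorus K U ∧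
        (d : WithBot ℕ∞) ≤ topologicalKrullDim ↥U.left) := by
  constructor
  · rintro ⟨U, _, i, him, hic, hs, ha, hc, hu, hd⟩
    haveI := him; haveI := hic; haveI := hs; haveI := hc; haveI := ha
    obtain ⟨V, _, j, p, h1, h2, h3, h4, h4', h5, h6, h7, h8, h9, h10⟩ := exists_push K φ f i
    haveI := h3; haveI := h4; haveI := h4'; haveI := h5; haveI := h6; haveI := h7; haveI := h9
    haveI : IsAffine V.left := TorPts21.isAffine_of_surjective_hom p
    exact ⟨V, inferInstance, j, h1, h2, h3, inferInstance, h5, TorPts21.hasNoSubtorus_image p hu, h10 ▸ hd⟩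
  · rintro ⟨V, _, i, him, hic, hs, ha, hc, hu, hd⟩
    haveI := him; haveI := hic; haveI := ha; haveI := hs; haveI := hc
    obtain ⟨U, _, u, q, h1, h2, h3, h4, h5, h6, h7⟩ := exists_pull K φ f i
    haveI := h3; haveI := h4; haveI := h5; haveI := h6
    haveI : IsAffine U.left := isAffine_of_isAffineHom q.left
    haveI : IsSeparated U.hom := AbRigid.isSeparated_of_grpObj U
    exact ⟨U, inferInstance, u, h1, h2, h3, inferInstance, h4, hasNoSubtorus_of_finite_hom q hu, hd.trans h7⟩

end Groth.Agent.IsogTransfer19
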