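import Groth.Agent.Lib.IsogTransfer19.Main
import Groth.Agent.Lib.BorelFix21.Component
import Groth.Agent.Lib.ThetaSplit13.Pullback
import Groth.Agent.Lib.H12.Dim
import Groth.Agent.Lib.H12.DimZero
import Groth.Agent.Lib.AbRigid.GrpTop
import Groth.Agent.S5355

/-!
# Subgroups along finite surjective homomorphisms
-/

set_option autoImplicit false
set_option linter.style.haveILetI false
set_option backward.isDefEq.respectTransparency.types false
universe u

open CategoryTheory Limits MonoidalCategory CartesianMonoidalCategory MonObj AlgebraicGeometry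

noncomputable section

namespace Groth.Agent.IsogTransfer19

theorem dim_eq_of_finite_surjective {X Y : Scheme.{u}} (f : X ⟶ Y) [IsFinite f] [Surjective f] :
    topologicalKrullDim X = topologicalKrullDim Y :=
  le_antisymm (H12.topologicalKrullDim_le_of_eq_of_specializes f f.continuous
      fun _ _ hs he => H12.eq_of_specializes_of_isIntegralHom f hs he)
    (H12.topologicalKrullDim_le_of_surjective_of_lift f f.surjective (Or.inl f.isClosedMap.specializingMap))

variable {k : Type u} [Field k] [IsAlgClosed k] {G H : Over (Spec (CommRingCat.of k))} [GrpObj G] [GrpObj H]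

attribute [local instance] specializationOrder in
/-- An open subgroup has the dimension of the group. -/
theorem dim_open_subgroup [LocallyOfFiniteType G.hom] {G₀ : Over (Spec (CommRingCat.of k))} [GrpObj G₀]
    (j : G₀ ⟶ G) [IsMonHom j] [IsOpenImmersion j.left] :
    topologicalKrullDim G.left ≤ topologicalKrullDim G₀.left := by
  rw [H12.topologicalKrullDim_eq_krullDim_specializationOrder,
    H12.topologicalKrullDim_eq_krullDim_specializationOrder]
  haveI : JacobsonSpace G.left := LocallyOfFiniteType.jacobsonSpace G.hom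
  refine iSup_le fun p => ?_
  let pt : Spec (CommRingCat.of k) := IsLocalRing.closedPoint k
  -- a translate of the open subgroup containing the most special point
  obtain ⟨g₀, hg₀⟩ : ∃ g₀ : 𝟙_ (Over (Spec (CommRingCat.of k))) ⟶ G,
      p.head ∈ Set.range (j ≫ OrbitTop19.tr (OrbitTop19.mulAction G) g₀).left := by
    by_contra hne
    rw [not_exists] at hne
    obtain ⟨q, hq, hqc⟩ := nonempty_inter_closedPoints
      (⟨p.head, subset_closure (Set.mem_singleton p.head)⟩ : (closure ({p.head} : Set G.left)).Nonempty)
      isClosed_closure.isLocallyClosed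
    obtain ⟨g₀, rfl⟩ := OrbitTop19.exists_point G q hqc
    haveI : IsIso (OrbitTop19.tr (OrbitTop19.mulAction G) g₀).left :=
      inferInstanceAs (IsIso ((Over.forget _).map (OrbitTop19.trIso (OrbitTop19.mulAction G) g₀).hom))
    haveI : IsOpenImmersion (j ≫ OrbitTop19.tr (OrbitTop19.mulAction G) g₀).left := by
      rw [Over.comp_left]; infer_instance
    refine hne g₀ ((specializes_iff_mem_closure.2 hq).mem_open
      (j ≫ OrbitTop19.tr (OrbitTop19.mulAction G) g₀).left.isOpenEmbedding.isOpen_range ⟨η[G₀].left pt, ?_⟩)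
    refine OrbitTop19.apply_comp_left η[G₀] _ g₀ ?_ pt
    rw [← Category.assoc, IsMonHom.one_hom, OrbitTop19.comp_tr, toUnit_unique (toUnit _) (𝟙 _), Category.id_comp]
    show lift g₀ η[G] ≫ μ[G] = g₀
    rw [← Hom.mul_def, show η[G] = (1 : 𝟙_ (Over (Spec (CommRingCat.of k))) ⟶ G) from by
      rw [Hom.one_def, toUnit_unique (toUnit _) (𝟙 _), Category.id_comp], _root_.mul_one g₀]
  haveI : IsIso (OrbitTop19.tr (OrbitTop19.mulAction G) g₀).left :=
    inferInstanceAs (IsIso ((Over.forget _).map (OrbitTop19.trIso (OrbitTop19.mulAction G) g₀).hom))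
  haveI : IsOpenImmersion (j ≫ OrbitTop19.tr (OrbitTop19.mulAction G) g₀).left := by
    rw [Over.comp_left]; infer_instance
  have he := (j ≫ OrbitTop19.tr (OrbitTop19.mulAction G) g₀).left.isOpenEmbedding
  have hmem : ∀ i, p i ∈ Set.range (j ≫ OrbitTop19.tr (OrbitTop19.mulAction G) g₀).left := fun i =>
    Specializes.mem_open (show p i ⤳ p.head from p.head_le i) he.isOpen_range hg₀
  choose t ht using hmem
  let q : LTSeries G₀.left :=
    { length := p.length
      toFun := t
      step := fun i => by
        show t i.castSucc < t i.succ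
        have hlt : p i.castSucc < p i.succ := p.step i
        refine lt_of_le_not_ge ?_ fun h => hlt.not_ge ?_
        · show t i.succ ⤳ t i.castSucc
          rw [← he.isEmbedding.isInducing.specializes_iff, ht, ht]
          exact hlt.le
        · show p i.castSucc ⤳ p i.succ
          rw [← ht, ← ht]
          exact Specializes.map h he.continuous }
  exact Order.LTSeries.length_le_krullDim q

omit [GrpObj H] in
/-- The image of a finite homomorphism from a smooth connected group. -/
theorem exists_image_finite {B Q : Over (Spec (CommRingCat.of k))} [GrpObj B] [GrpObj Q] [Smooth B.hom]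
    [ConnectedSpace B.left] [LocallyOfFiniteType Q.hom] (c : B ⟶ Q) [IsMonHom c] [IsFinite c.left] :
    ∃ (V : Over (Spec (CommRingCat.of k))) (_ : GrpObj V) (i : V ⟶ Q) (p : B ⟶ V), IsMonHom i ∧
      IsClosedImmersion i.left ∧ Smooth V.hom ∧ ConnectedSpace V.left ∧ IsMonHom p ∧ Surjective p.left ∧
      IsFinite p.left ∧ Flat p.left ∧ p ≫ i = c := by
  let Z : Over (Spec (CommRingCat.of k)) := Over.mk (c.left.imageι ≫ Q.hom)
  let i : Z ⟶ Q := Over.homMk c.left.imageι rfl
  let g : B ⟶ Z := Over.homMk c.left.toImage (by
    show c.left.toImage ≫ c.left.imageι ≫ Q.hom = B.hom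
    rw [Scheme.Hom.toImage_imageι_assoc, Over.w])
  have hgi : g ≫ i = c := Over.OverMorphism.ext c.left.toImage_imageι
  haveI : IsClosedImmersion i.left := inferInstanceAs (IsClosedImmersion c.left.imageι)
  haveI : IsSchemeTheoreticallyDominant g.left := AbRigid.isSchemeTheoreticallyDominant_toImage c.left
  obtain ⟨hZ, hi, hg⟩ := GrpImage19.exists_grpObj c i g hgi
  haveI := GrpImage19.surjective c i g hgi
  haveI := hi
  haveI := hg
  haveI : LocallyOfFiniteType Z.hom := by rw [← Over.w i]; infer_instance
  obtain ⟨V, _, r, hr, hrc, hrs, hVr, hVs⟩ := BorelFix21.exists_reduced_subgroup Z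
  haveI := hr
  haveI := hrc
  haveI := hVr
  haveI := hVs
  haveI : IsReduced B.left := OrbitTop19.isReduced_of_smooth B.hom
  obtain ⟨p, hp⟩ := PerfProd19.exists_lift_of_surjective r g
  haveI : IsClosedImmersion (r ≫ i).left := by rw [Over.comp_left]; infer_instance
  haveI : Mono (r ≫ i) := Over.mono_of_mono_left _
  have hpc : p ≫ r ≫ i = c := by rw [← Category.assoc, hp, hgi]
  haveI : IsMonHom p := BorelFix21.isMonHom_of_comp (r ≫ i) p (by rw [hpc]; infer_instance)
  haveI hsurj : Surjective p.left := ⟨fun h => by
    obtain ⟨w, hw⟩ := g.left.surjective (r.left h)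
    exact ⟨w, r.left.isClosedEmbedding.injective ((OrbitTop19.apply_comp_left p r g hp w).trans hw)⟩⟩
  haveI : IsFinite (p.left ≫ (r ≫ i).left) := by rw [← Over.comp_left, hpc]; infer_instance
  haveI : IsFinite p.left := IsFinite.of_comp p.left (r ≫ i).left
  haveI : PreconnectedSpace V.left := p.left.surjective.denseRange.preconnectedSpace p.left.continuous
  haveI : ConnectedSpace V.left := { toNonempty := ⟨p.left (Classical.arbitrary B.left)⟩ }
  exact ⟨V, inferInstance, r ≫ i, p, inferInstance, inferInstance, inferInstance, inferInstance, inferInstance,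
    inferInstance, inferInstance, (Groth.Agent.S5355.result k B V p p.left.surjective.denseRange).2 inferInstance, hpc⟩

/-- The identity component of the reduced preimage under a finite surjective homomorphism. -/
theorem exists_preimage_finite [LocallyOfFiniteType G.hom] (f : G ⟶ H) [IsMonHom f] [IsFinite f.left]
    [Surjective f.left] {V : Over (Spec (CommRingCat.of k))} [GrpObj V] [LocallyOfFiniteType V.hom] (i : V ⟶ H)
    [IsMonHom i] [IsClosedImmersion i.left] :
    ∃ (U : Over (Spec (CommRingCat.of k))) (_ : GrpObj U) (u : U ⟶ G) (q : U ⟶ V), IsMonHom u ∧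
      IsClosedImmersion u.left ∧ Smooth U.hom ∧ ConnectedSpace U.left ∧ IsMonHom q ∧ IsFinite q.left ∧
      topologicalKrullDim V.left ≤ topologicalKrullDim U.left := by
  obtain ⟨_, h1, h2⟩ := ThetaSplit13.exists_grpObj_fib (f := f) (g := i)
  haveI := h1
  haveI := h2
  haveI : IsClosedImmersion (ThetaSplit13.fib₁ f i).left :=
    inferInstanceAs (IsClosedImmersion (pullback.fst f.left i.left))
  haveI : IsFinite (ThetaSplit13.fib₂ f i).left := inferInstanceAs (IsFinite (pullback.snd f.left i.left))
  haveI : Surjective (ThetaSplit13.fib₂ f i).left := inferInstanceAs (Surjective (pullback.snd f.left i.left))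
  haveI : LocallyOfFiniteType (ThetaSplit13.fib f i).hom := by rw [← Over.w (ThetaSplit13.fib₁ f i)]; infer_instance
  obtain ⟨R, _, r, hr, hrc, hrs, hRr, hRs⟩ := BorelFix21.exists_reduced_subgroup (ThetaSplit13.fib f i)
  haveI := hr
  haveI := hrc
  haveI := hrs
  haveI := hRs
  obtain ⟨U, _, j, hj, hjo, hUc⟩ := BorelFix21.exists_identity_component R
  haveI := hj
  haveI := hjo
  haveI := hUc
  have hRV : topologicalKrullDim V.left = topologicalKrullDim R.left := by
    rw [← dim_eq_of_finite_surjective (ThetaSplit13.fib₂ f i).left, ← dim_eq_of_finite_surjective r.left]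
  haveI : IsClosedImmersion j.left := IsClosedImmersion.of_isPreimmersion _
    (AbRigid.isClosed_range_of_isOpen j j.left.isOpenEmbedding.isOpen_range)
  exact ⟨U, inferInstance, j ≫ r ≫ ThetaSplit13.fib₁ f i, j ≫ r ≫ ThetaSplit13.fib₂ f i, inferInstance,
    by simp only [Over.comp_left]; infer_instance, by rw [← Over.w j]; infer_instance, inferInstance, inferInstance,
    by simp only [Over.comp_left]; infer_instance, hRV.le.trans (dim_open_subgroup j)⟩

/-- A finite homomorphism into a group without subtori. -/
theorem hasNoSubtorus_of_finite_hom [IsSeparated G.hom] [IsAffine H.left] [Smooth H.hom] [ConnectedSpace H.left]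
    (f : G ⟶ H) [IsMonHom f] [IsFinite f.left] (h : Red.HasNoSubtorus k H) : Red.HasNoSubtorus k G := by
  intro T _ j _ _ hT
  obtain ⟨hTa, hTs, hTc, -⟩ := TorPts21.props_of_isTorus hT
  haveI := hTa
  haveI := hTs
  haveI := hTc
  haveI := good_of_connected T
  haveI : IsSeparated H.hom := inferInstance
  have h1 : j ≫ f = 1 :=
    TorPts21.hom_eq_one_of_pts _ fun t => TorPts21.pt_torus_hom_eq_one hT h _ t
  have h2 := eq_one_of_comp_eq_one f j h1 1 (MonObj.one_comp j)
  have h3 : 𝟙 T = 1 := (cancel_mono j).1 (by rw [Category.id_comp, MonObj.one_comp, h2])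
  exact ⟨η[T].left, (congrArg CommaMorphism.left h3).symm, Over.w η[T]⟩

end Groth.Agent.IsogTransfer19
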